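import Mathlib.GroupTheory.Nilpotent
import Mathlib.GroupTheory.GroupAction.Basic
import Mathlib.GroupTheory.OrderOfElement
import Mathlib.GroupTheory.Index
import Mathlib.Algebra.BigOperators.Group.Finset.Basic

/-!
# Half-transitive coprime action of a nilpotent group with abelian point stabilisers
-/

set_option autoImplicit false
set_option linter.style.haveILetI false
set_option linter.unusedSectionVars false

namespace CfsgLib.TwoDegrees

variable {A X : Type*} [Group A] [Finite A] [CommGroup X] [Finite X]

/-- The stabiliser of a point under an action by automorphisms. -/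
def stabAut (φ : A →* MulAut X) (x : X) : Subgroup A where
  carrier := {a | φ a x = x}
  one_mem' := by simp
  mul_mem' := fun {a b} (ha : φ a x = x) (hb : φ b x = x) => by
    show φ (a * b) x = x
    rw [map_mul, MulAut.mul_apply, hb, ha]
  inv_mem' := fun {a} (ha : φ a x = x) => by
    show φ a⁻¹ x = x
    conv_lhs => rw [← ha]
    rw [← MulAut.mul_apply, ← map_mul, inv_mul_cancel, map_one, MulAut.one_apply]

theorem mem_stabAut {φ : A →* MulAut X} {x : X} {a : A} : a ∈ stabAut φ x ↔ φ a x = x := Iff.rfl

/-- The product of the translates of `y` under the powers of `z`. -/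
def normMap (φ : A →* MulAut X) (z : A) (n : ℕ) : X →* X where
  toFun y := ∏ i ∈ Finset.range n, φ (z ^ i) y
  map_one' := by simp
  map_mul' y y' := by simp [Finset.prod_mul_distrib]

theorem normMap_of_fixed (φ : A →* MulAut X) (z : A) (n : ℕ) {y : X} (hy : φ z y = y) :
    normMap φ z n y = y ^ n := by
  have h : ∀ i : ℕ, φ (z ^ i) y = y := fun i =>
    mem_stabAut.1 ((stabAut φ y).pow_mem (mem_stabAut.2 hy) i)
  show ∏ i ∈ Finset.range n, φ (z ^ i) y = _
  rw [Finset.prod_congr rfl fun i _ => h i, Finset.prod_const, Finset.card_range]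

theorem normMap_div (φ : A →* MulAut X) (z : A) (μ : X) :
    normMap φ z (orderOf z) (φ z μ / μ) = 1 := by
  show ∏ i ∈ Finset.range (orderOf z), φ (z ^ i) (φ z μ / μ) = 1
  rw [Finset.prod_congr rfl fun i _ => show φ (z ^ i) (φ z μ / μ) =
      φ (z ^ (i + 1)) μ / φ (z ^ i) μ by rw [map_div, pow_succ, map_mul, MulAut.mul_apply],
    Finset.prod_range_div (fun i => φ (z ^ i) μ)]
  simp [pow_orderOf_eq_one]

theorem normMap_comm (φ : A →* MulAut X) {z a : A} (hz : Commute a z) (n : ℕ) (y : X) :
    φ a (normMap φ z n y) = normMap φ z n (φ a y) := by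
  show φ a (∏ i ∈ Finset.range n, φ (z ^ i) y) = ∏ i ∈ Finset.range n, φ (z ^ i) (φ a y)
  rw [map_prod]
  refine Finset.prod_congr rfl fun i _ => ?_
  rw [← MulAut.mul_apply, ← MulAut.mul_apply, ← map_mul, ← map_mul, (hz.pow_right i).eq]

/-- If every moved point has an abelian stabiliser of index `m` and every abelian subgroup of
index less than `m` forces commutativity, the acting group is abelian of order `m`. -/
theorem half_transitive [Group.IsNilpotent A] (φ : A →* MulAut X) (hinj : Function.Injective φ)
    (hcop : (Nat.card A).Coprime (Nat.card X)) [Nontrivial A] (m : ℕ)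
    (hmove : ∀ x : X, (∃ a, φ a x ≠ x) → (stabAut φ x).index = m ∧
      ∀ a ∈ stabAut φ x, ∀ b ∈ stabAut φ x, a * b = b * a)
    (hsmall : ∀ B : Subgroup A, (∀ a ∈ B, ∀ b ∈ B, a * b = b * a) → B.index < m →
      ∀ a b : A, a * b = b * a) :
    (∀ a b : A, a * b = b * a) ∧ Nat.card A = m := by
  classical
  obtain ⟨⟨z, hz⟩, hz0⟩ := (Subgroup.center A).ne_bot_iff_exists_ne_one.1
    (Group.IsNilpotent.center_ne_bot A)
  have hz1 : z ≠ 1 := fun h => hz0 (Subtype.ext h)
  have hmoved : ∀ a : A, a ≠ 1 → ∃ x, φ a x ≠ x := by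
    intro a ha
    by_contra hc
    push Not at hc
    exact ha (hinj (by rw [map_one]; exact MulEquiv.ext fun x => hc x))
  obtain ⟨x, hx⟩ := hmoved z hz1
  have hx0 : ∃ a, φ a x ≠ x := ⟨z, hx⟩
  obtain ⟨hidx, hab⟩ := hmove x hx0
  have hcomm : ∀ a b : A, a * b = b * a := by
    set B' := stabAut φ x ⊔ Subgroup.zpowers z with hB'
    refine hsmall B' ?_ ?_
    · have hz' : ∀ a : A, a * z = z * a := fun a => Subgroup.mem_center_iff.1 hz a
      have h1 : B' ≤ Subgroup.centralizer (stabAut φ x : Set A) := sup_le
        (fun a ha => Subgroup.mem_centralizer_iff.2 fun b hb => hab b hb a ha)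
        (Subgroup.zpowers_le.2 (Subgroup.mem_centralizer_iff.2 fun b _ => hz' b))
      have h2 : B' ≤ Subgroup.centralizer (B' : Set A) := by
        refine sup_le (fun a ha => Subgroup.mem_centralizer_iff.2 fun b hb => ?_)
          (Subgroup.zpowers_le.2 (Subgroup.mem_centralizer_iff.2 fun b _ => hz' b))
        exact (Subgroup.mem_centralizer_iff.1 (h1 hb) a ha).symm
      exact fun a ha b hb => (Subgroup.mem_centralizer_iff.1 (h2 ha) b hb).symm
    · rw [← hidx]
      refine Subgroup.index_strictAnti (lt_of_le_of_ne le_sup_left fun h => hx ?_)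
      exact mem_stabAut.1 (h ▸ Subgroup.mem_sup_right (Subgroup.mem_zpowers z))
  refine ⟨hcomm, ?_⟩
  have hbot : stabAut φ x = ⊥ := by
    refine (Subgroup.eq_bot_iff_forall _).2 fun a ha => ?_
    by_contra ha1
    -- a non-trivial central element moves every moved point
    obtain ⟨μ, hμ⟩ := hmoved a ha1
    set β := φ a μ / μ with hβ
    set n := orderOf a with hn
    have hn' : (Nat.card X).Coprime n := (hcop.coprime_dvd_left (orderOf_dvd_natCard a)).symm
    have hpow : Function.Injective fun y : X => y ^ n := hn'.pow_left_bijective.1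
    have hax : φ a x = x := mem_stabAut.1 ha
    have hNxb : normMap φ a n (x * β) = x ^ n := by
      rw [map_mul, normMap_of_fixed φ a n hax, hβ, hn, normMap_div, mul_one]
    have hle : stabAut φ (x * β) ≤ stabAut φ x := by
      intro b hb
      have h := normMap_comm φ (show Commute b a from hcomm b a) n (x * β)
      rw [mem_stabAut.1 hb, hNxb, map_pow] at h
      exact hpow h
    have hx' : ∃ b, φ b (x * β) ≠ x * β := ⟨z, fun h => hx (hle (mem_stabAut.2 h))⟩
    have heq : stabAut φ (x * β) = stabAut φ x :=
      hle.eq_or_lt.resolve_right fun hlt => by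
        have := Subgroup.index_strictAnti hlt
        rw [hidx, (hmove _ hx').1] at this
        exact lt_irrefl _ this
    have hb : φ a (x * β) = x * β := mem_stabAut.1 (heq ▸ ha)
    rw [map_mul, hax] at hb
    have h := normMap_of_fixed φ a n (mul_left_cancel hb)
    rw [hβ, hn, normMap_div, ← hβ, ← hn] at h
    exact (div_ne_one.2 hμ) (hpow (by simpa using h.symm))
  rw [← hidx, hbot, Subgroup.index_bot]

end CfsgLib.TwoDegrees
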