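import Cfsg.Agent.S4456
import Cfsg.Agent.Lib.TwoDegrees.HalfTransitive
import Cfsg.Agent.Lib.CharCorr.QuotientTools
import Cfsg.Agent.Lib.CharCorr.Solvable
import Cfsg.Agent.Lib.Characters.ItoMichlerPSolvable
import Cfsg.Agent.Lib.Characters.SupplementAvg
import Cfsg.Agent.Lib.Characters.LinearTwist
import Cfsg.Agent.Lib.Characters.Monomial
import Mathlib.GroupTheory.FiniteAbelian.Duality
import Mathlib.RingTheory.RootsOfUnity.AlgebraicallyClosed
import Mathlib.Analysis.Complex.Polynomial.Basic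

/-!
# Two character degrees: the abelian normal Hall subgroup
-/

set_option autoImplicit false
set_option linter.style.haveILetI false
set_option linter.unusedSectionVars false

namespace CfsgLib.TwoDegrees

open Cfsg CfsgLib.Characters CfsgLib.CharCorr
open scoped ComplexConjugate

universe u

theorem deg_eq {X : Type u} [Group X] (χ : IrrCharacter X) :
    (χ : X → ℂ) 1 = (charDegree (χ : X → ℂ) : ℂ) := irr_one_eq_charDegree χ

theorem deg_pullback {G H : Type u} [Group G] [Finite G] [Group H] [Finite H] (f : G →* H)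
    (hf : Function.Surjective f) {m : ℕ}
    (hcd : ∀ χ : IrrCharacter G, charDegree (χ : G → ℂ) = 1 ∨ charDegree (χ : G → ℂ) = m)
    (χ : IrrCharacter H) : charDegree (χ : H → ℂ) = 1 ∨ charDegree (χ : H → ℂ) = m := by
  have := hcd ⟨_, CfsgLib.Clifford.isIrrCharacter_pullback χ.2 f hf⟩
  have he : charDegree (fun x => (χ : H → ℂ) (f x)) = charDegree (χ : H → ℂ) :=
    CfsgLib.LinearTwist.charDegree_eq_of_apply_one (by simp [deg_eq])
  rwa [he] at this

/-- The degree is at most the index of an abelian subgroup. -/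
theorem deg_le_index {A : Type u} [Group A] [Finite A] (B : Subgroup A)
    (hB : ∀ a ∈ B, ∀ b ∈ B, a * b = b * a) (χ : IrrCharacter A) :
    charDegree (χ : A → ℂ) ≤ B.index := by
  classical
  haveI := Fintype.ofFinite A
  haveI := Fintype.ofFinite B
  obtain ⟨η, hη⟩ := CharCorrQ.exists_mult_ne_zero B.subtype χ
  have hη1 : (η : B → ℂ) 1 = 1 := CfsgLib.CharMonomial.degree_one_of_commutator η.2 fun a b => by
    rw [show a * b * (b * a)⁻¹ = 1 from mul_inv_eq_one.2 (Subtype.ext (hB a a.2 b b.2))]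
  refine CfsgLib.SupplementAvg.degree_le_of_constituent
    (CfsgLib.Induction.isCharacter_indFun B (irr_isCharacter η)) χ.2 ?_
    (by rw [CfsgLib.Induction.indFun_one_apply, hη1, mul_one]) (deg_eq χ)
  rw [CfsgLib.Induction.classInner_indFun B _ (irr_isClassFunction χ), classInner_conj_symm,
    show classInner (fun x : B => (χ : A → ℂ) x) (η : B → ℂ) = (mult B.subtype χ η : ℂ) from
      mult_spec B.subtype χ η, map_natCast, Nat.cast_ne_zero]
  exact hη

variable {G : Type u} [Group G] [Finite G] {m : ℕ}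
  (hcd : ∀ χ : IrrCharacter G, charDegree (χ : G → ℂ) = 1 ∨ charDegree (χ : G → ℂ) = m)
  (hm : ∃ χ : IrrCharacter G, charDegree (χ : G → ℂ) = m) (hm1 : m ≠ 1)

include hm hm1 in
theorem one_lt : 1 < m := by
  obtain ⟨χ, hχ⟩ := hm
  have := charDegree_irr_pos χ
  omega

include hcd hm hm1 in
/-- The intersection of the normal `p`-complements, `p ∣ m`, is an abelian normal Hall subgroup
with nilpotent quotient; if `m` is not a prime power it contains the commutator. -/
theorem exists_core : ∃ (R : Subgroup G) (_ : R.Normal), (Nat.card R).Coprime R.index ∧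
    (∀ a ∈ R, ∀ b ∈ R, a * b = b * a) ∧ Group.IsNilpotent (G ⧸ R) ∧
    (∀ q : ℕ, q.Prime → q ∣ R.index → q ∣ m) ∧ (¬ IsPrimePow m → commutator G ≤ R) := by
  classical
  haveI := Fintype.ofFinite G
  have hlt := one_lt hm hm1
  have hN : ∀ p : m.primeFactors, ∃ N : Subgroup G, N.Normal ∧ (Nat.card N).Coprime p.1 ∧
      ∃ k : ℕ, N.index = p.1 ^ k := fun p =>
    Cfsg.Agent.S4456.result p.1 (Nat.prime_of_mem_primeFactors p.2) fun χ hχ => by
      rw [(hcd χ).resolve_left hχ]; exact Nat.dvd_of_mem_primeFactors p.2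
  choose N hNn hNc k hk using hN
  haveI := hNn
  set R : Subgroup G := ⨅ p, N p with hR
  have hRn : R.Normal := by
    refine ⟨fun x hx g => ?_⟩
    simp only [hR, Subgroup.mem_iInf] at hx ⊢
    exact fun p => (hNn p).conj_mem x (hx p) g
  haveI := hRn
  have hRm : (Nat.card R).Coprime m := by
    refine Nat.coprime_of_dvd' fun q hq hqR hqm => ?_
    have h := Nat.dvd_gcd (hqR.trans (Subgroup.card_dvd_of_le
      (iInf_le N ⟨q, Nat.mem_primeFactors.2 ⟨hq, hqm, by omega⟩⟩))) (dvd_refl q)
    rw [(hNc _)] at h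
    exact h
  have hpgrp : ∀ p : m.primeFactors, IsPGroup p.1 (G ⧸ N p) := fun p =>
    IsPGroup.of_card (by rw [← Subgroup.index_eq_card]; exact hk p)
  have hmem : ∀ x : G, (x : G ⧸ R) = 1 ↔ ∀ p, (x : G ⧸ N p) = 1 := fun x => by
    simp only [QuotientGroup.eq_one_iff, hR, Subgroup.mem_iInf]
  have hidx : ∀ q : ℕ, q.Prime → q ∣ R.index → q ∣ m := by
    intro q hq hqi
    by_contra hqm
    haveI : Fact q.Prime := ⟨hq⟩
    rw [Subgroup.index_eq_card] at hqi
    obtain ⟨x, hx⟩ := exists_prime_orderOf_dvd_card' (G := G ⧸ R) q hqi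
    obtain ⟨y, rfl⟩ := QuotientGroup.mk_surjective x
    have : (y : G ⧸ R) = 1 := (hmem y).2 fun p => by
      obtain ⟨j, hj⟩ := hpgrp p (y : G ⧸ N p)
      have hq1 : (y : G ⧸ N p) ^ q = 1 := by
        have h := congrArg (QuotientGroup.map R (N p) (MonoidHom.id G)
          (show R ≤ (N p).comap (MonoidHom.id G) from iInf_le N p))
          (hx ▸ pow_orderOf_eq_one ((y : G ⧸ R)))
        rw [map_pow, map_one] at h
        exact h
      have hcop : (p.1 ^ j).Coprime q := Nat.Coprime.pow_left j ((Nat.coprime_primes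
        (Nat.prime_of_mem_primeFactors p.2) hq).2 fun h => hqm (h ▸ Nat.dvd_of_mem_primeFactors p.2))
      exact orderOf_eq_one_iff.1 (Nat.eq_one_of_dvd_coprimes hcop (orderOf_dvd_of_pow_eq_one hj)
        (orderOf_dvd_of_pow_eq_one hq1))
    rw [this, orderOf_one] at hx
    exact hq.one_lt.ne hx
  have hcop : (Nat.card R).Coprime R.index := Nat.coprime_of_dvd fun q hq hqR hqi =>
    Nat.not_coprime_of_dvd_of_dvd hq.one_lt hqR (hidx q hq hqi) hRm
  have hab : ∀ a ∈ R, ∀ b ∈ R, a * b = b * a := by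
    intro a ha b hb
    refine congrArg Subtype.val (CfsgLib.ItoMichler.comm_of_degree_one (G := R) (fun θ => ?_)
      ⟨a, ha⟩ ⟨b, hb⟩)
    haveI := Fintype.ofFinite R
    obtain ⟨χ, hχ⟩ := exists_over R θ
    have hdvd : charDegree (θ : R → ℂ) ∣ m := by
      have hne : classInner (fun n : R => (χ : G → ℂ) n) (θ : R → ℂ) ≠ 0 := by
        rw [show classInner (fun n : R => (χ : G → ℂ) n) (θ : R → ℂ) = (mult R.subtype χ θ : ℂ)
          from mult_spec R.subtype χ θ, Nat.cast_ne_zero]
        exact hχ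
      have h := CfsgLib.Clifford.clifford_degree hRn χ.2 θ.2 hne
      rw [show classInner (fun n : R => (χ : G → ℂ) n) (θ : R → ℂ) = (mult R.subtype χ θ : ℂ)
        from mult_spec R.subtype χ θ, deg_eq, deg_eq, ← Nat.cast_mul, ← Nat.cast_mul,
        Nat.cast_inj] at h
      rcases hcd χ with h1 | h1 <;> rw [h1] at h
      · rw [Nat.eq_one_of_mul_eq_one_left h.symm]; exact one_dvd m
      · exact Dvd.intro_left _ h.symm
    exact Nat.eq_one_of_dvd_coprimes hRm (charDegree_irr_dvd_card θ) hdvd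
  have hnil : Group.IsNilpotent (G ⧸ R) := by
    let F : G ⧸ R →* ∀ p, G ⧸ N p :=
      MonoidHom.pi fun p => QuotientGroup.map R (N p) (MonoidHom.id G)
          (show R ≤ (N p).comap (MonoidHom.id G) from iInf_le N p)
    have hF : Function.Injective F := by
      rw [injective_iff_map_eq_one]
      intro x
      refine QuotientGroup.induction_on x fun y hy => (hmem y).2 fun p => ?_
      exact congrFun hy p
    haveI : ∀ p : m.primeFactors, Group.IsNilpotent (G ⧸ N p) := fun p => by
      haveI : Fact p.1.Prime := ⟨Nat.prime_of_mem_primeFactors p.2⟩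
      exact (hpgrp p).isNilpotent
    exact Group.nilpotent_of_mulEquiv (MonoidHom.ofInjective hF).symm
  refine ⟨R, hRn, hcop, hab, hnil, hidx, fun hpp => le_iInf fun p => ?_⟩
  refine Subgroup.Normal.quotient_commutative_iff_commutator_le.1 ⟨⟨fun a b => ?_⟩⟩
  refine CfsgLib.ItoMichler.comm_of_degree_one (fun χ => ?_) a b
  rcases deg_pullback (QuotientGroup.mk' (N p)) (QuotientGroup.mk'_surjective _) hcd χ with h | h
  · exact h
  · exfalso
    have hd := charDegree_irr_dvd_card χ
    rw [← Subgroup.index_eq_card, hk, h] at hd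
    obtain ⟨i, -, hi⟩ := (Nat.dvd_prime_pow (Nat.prime_of_mem_primeFactors p.2)).1 hd
    refine hpp ⟨p.1, i, (Nat.prime_of_mem_primeFactors p.2).prime, Nat.pos_of_ne_zero ?_, hi.symm⟩
    intro h0
    rw [h0, pow_zero] at hi
    omega

end CfsgLib.TwoDegrees
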