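import Cfsg.Agent.Lib.TwoDegrees.Basic

/-!
# A nilpotent group with two character degrees is metabelian
-/

set_option autoImplicit false
set_option linter.style.haveILetI false
set_option linter.unusedSectionVars false

namespace CfsgLib.TwoDegrees

open Cfsg CfsgLib.Characters CfsgLib.CharCorr
open scoped ComplexConjugate commutatorElement

universe u

variable {G : Type u} [Group G] [Finite G]

/-- In a nilpotent group with two degrees the commutator subgroup is abelian. -/
theorem commutator_comm_of_nilpotent [Group.IsNilpotent G] {m : ℕ}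
    (hcd : ∀ χ : IrrCharacter G, charDegree (χ : G → ℂ) = 1 ∨ charDegree (χ : G → ℂ) = m)
    (hm : ∃ χ : IrrCharacter G, charDegree (χ : G → ℂ) = m) (hm1 : m ≠ 1) :
    ∀ a ∈ commutator G, ∀ b ∈ commutator G, a * b = b * a := by
  classical
  haveI := Fintype.ofFinite G
  have h1m := one_lt hm hm1
  have hlin : ∀ ξ : IrrCharacter G, charDegree (ξ : G → ℂ) = 1 →
      ∀ g ∈ commutator G, (ξ : G → ℂ) g = (ξ : G → ℂ) 1 := by
    intro ξ hξ g hg
    obtain ⟨f, hf⟩ := CfsgLib.LinearTwist.exists_hom_of_charDegree_one (irr_isCharacter ξ) hξ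
    rw [hf]
    show (f g : ℂ) = (f 1 : ℂ)
    rw [map_one, show f g = 1 from Abelianization.commutator_subset_ker f hg]
  have key : ∀ χ : IrrCharacter G, ∀ g ∈ ⁅commutator G, commutator G⁆,
      (χ : G → ℂ) g = (χ : G → ℂ) 1 := by
    intro χ
    rcases hcd χ with hχ | hχ
    · exact fun g hg => hlin χ hχ g (Subgroup.commutator_le_right (commutator G) (commutator G) hg)
    obtain ⟨H, lam, hH⟩ :=
      CfsgLib.CharMonomial.monomial_of_nilpotent (Nat.card G) G rfl χ χ.2
    haveI := Fintype.ofFinite H
    have hidx : H.index = m := by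
      have h := congrFun hH 1
      rw [CfsgLib.Induction.indFun_one_apply, deg_eq, map_one, Units.val_one, mul_one,
        Nat.cast_inj, hχ] at h
      exact h.symm
    have hπ := CfsgLib.Induction.isCharacter_indFun H
      (CfsgLib.Induction.isCharacter_const_one (G := H))
    set π := indFun H fun _ : H => (1 : ℂ) with hπdef
    have hπ1 : π 1 = (m : ℂ) := by
      rw [hπdef, CfsgLib.Induction.indFun_one_apply, hidx, mul_one]
    obtain ⟨k, hk, hsum⟩ := CfsgLib.Clifford.exists_mult hπ
    have hone : k (principalIrr G) = 1 := by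
      have h := hk (principalIrr G)
      rw [hπdef, CfsgLib.Induction.classInner_indFun H _ (irr_isClassFunction _)] at h
      have h1 : classInner (fun _ : H => (1 : ℂ))
          (fun h : H => ((principalIrr G : G → ℂ)) h) = 1 := by
        simp [classInner, principalIrr, Nat.card_eq_fintype_card]
      rw [h1] at h
      exact_mod_cast h.symm
    have hsmall : ∀ ξ : IrrCharacter G, k ξ ≠ 0 → charDegree (ξ : G → ℂ) = 1 := by
      intro ξ hξ
      refine (hcd ξ).resolve_right fun hξm => ?_
      have hne : ξ ≠ principalIrr G := by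
        intro h
        have h1 : charDegree (ξ : G → ℂ) = 1 :=
          CfsgLib.LinearTwist.charDegree_eq_of_apply_one (by rw [h]; simp [principalIrr])
        omega
      have h := congrFun hsum 1
      simp only [Finset.sum_apply, Pi.smul_apply, smul_eq_mul, deg_eq, hπ1, ← Nat.cast_mul,
        ← Nat.cast_sum, Nat.cast_inj] at h
      have hle : k ξ * charDegree (ξ : G → ℂ) +
          k (principalIrr G) * charDegree (principalIrr G : G → ℂ) ≤ m := by
        conv_rhs => rw [h]
        rw [← Finset.sum_pair (f := fun η : IrrCharacter G => k η * charDegree (η : G → ℂ)) hne]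
        exact Finset.sum_le_sum_of_subset (Finset.subset_univ _)
      have hp1 : charDegree (principalIrr G : G → ℂ) = 1 :=
        CfsgLib.LinearTwist.charDegree_eq_of_apply_one (by simp [principalIrr])
      rw [hξm, hone, hp1] at hle
      have := Nat.le_mul_of_pos_left m (Nat.pos_of_ne_zero hξ)
      omega
    have hHc : commutator G ≤ H := by
      intro g hg
      by_contra hgH
      have h1 : π g = π 1 := by
        have ha := congrFun hsum g
        have hb := congrFun hsum 1
        simp only [Finset.sum_apply, Pi.smul_apply, smul_eq_mul] at ha hb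
        rw [ha, hb]
        refine Finset.sum_congr rfl fun ξ _ => ?_
        by_cases h0 : k ξ = 0
        · simp [h0]
        · rw [hlin ξ (hsmall ξ h0) g hg]
      rw [hπdef, CfsgLib.Induction.indFun_apply, CfsgLib.Induction.indFun_apply] at h1
      have hcard : (Nat.card H : ℂ)⁻¹ ≠ 0 := by simp
      have h2 := mul_left_cancel₀ hcard h1
      have h3 : ∀ x : G, extendByZero H (fun _ => (1 : ℂ)) (x⁻¹ * 1 * x) = 1 := fun x => by
        rw [CfsgLib.Induction.extendByZero_mem _ _ (by simp [H.one_mem])]
      rw [Finset.sum_congr rfl fun x _ => h3 x] at h2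
      have h4 : ∀ x : G, extendByZero H (fun _ => (1 : ℂ)) (x⁻¹ * g * x) =
          ((if x⁻¹ * g * x ∈ H then 1 else 0 : ℕ) : ℂ) := fun x => by
        split_ifs with h
        · rw [CfsgLib.Induction.extendByZero_mem _ _ h]; simp
        · rw [CfsgLib.Induction.extendByZero_notMem _ _ h]; simp
      rw [Finset.sum_congr rfl fun x _ => h4 x, ← Nat.cast_sum] at h2
      simp only [Finset.sum_const, Finset.card_univ, nsmul_eq_mul, mul_one, Nat.cast_inj] at h2
      have hlt : ∑ x : G, (if x⁻¹ * g * x ∈ H then 1 else 0) < ∑ _x : G, 1 :=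
        Finset.sum_lt_sum (fun x _ => by split_ifs <;> simp)
          ⟨1, Finset.mem_univ _, by simp [hgH]⟩
      simp only [Finset.sum_const, Finset.card_univ, smul_eq_mul, mul_one] at hlt
      omega
    intro g hg
    rw [hH, CfsgLib.Induction.indFun_apply, CfsgLib.Induction.indFun_apply]
    congr 1
    refine Finset.sum_congr rfl fun x _ => ?_
    have hx : x⁻¹ * g * x ∈ ⁅H, H⁆ := by
      refine Subgroup.commutator_mono hHc hHc ?_
      have := (inferInstance : (⁅commutator G, commutator G⁆).Normal).conj_mem g hg x⁻¹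
      rwa [inv_inv] at this
    rw [CfsgLib.Induction.extendByZero_mem _ _ (Subgroup.commutator_le_self H hx),
      CfsgLib.Induction.extendByZero_mem _ _ (by simp [H.one_mem])]
    have hxH : x⁻¹ * g * x ∈ H := Subgroup.commutator_le_self H hx
    have h0 : lam ⟨x⁻¹ * g * x, hxH⟩ = 1 := by
      rw [← Subgroup.map_subtype_commutator] at hx
      obtain ⟨y, hy, hye⟩ := hx
      rw [show (⟨x⁻¹ * g * x, hxH⟩ : H) = y from Subtype.ext hye.symm]
      exact Abelianization.commutator_subset_ker lam hy
    show (lam ⟨x⁻¹ * g * x, hxH⟩ : ℂ) = (lam ⟨x⁻¹ * 1 * x, _⟩ : ℂ)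
    rw [h0, show (⟨x⁻¹ * 1 * x, by simp [H.one_mem]⟩ : H) = 1 from Subtype.ext (by simp), map_one]
  intro a ha b hb
  have hc : ⁅a, b⁆ ∈ ⁅commutator G, commutator G⁆ := Subgroup.commutator_mem_commutator ha hb
  by_contra hne
  have h := sum_degree_mul_irr (G := G) ⁅a, b⁆
  rw [if_neg (fun h1 => hne (commutatorElement_eq_one_iff_mul_comm.1 h1)),
    Finset.sum_congr rfl fun χ _ => by rw [key χ _ hc]] at h
  have h' := sum_degree_mul_irr (G := G) (1 : G)
  rw [if_pos rfl, h] at h'
  exact Nat.card_pos.ne' (Nat.cast_eq_zero.1 h'.symm)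

end CfsgLib.TwoDegrees
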