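import Cfsg.Agent.Lib.TwoDegrees.Basic
import Mathlib.GroupTheory.SchurZassenhaus

/-!
# Two character degrees: the structure of the group
-/

set_option autoImplicit false
set_option linter.style.haveILetI false
set_option linter.unusedSectionVars false

namespace CfsgLib.TwoDegrees

open Cfsg CfsgLib.Characters CfsgLib.CharCorr
open scoped ComplexConjugate commutatorElement

universe u

variable {G : Type u} [Group G] [Finite G]

/-- A moved linear character of `R` has inertia group of index `m`, abelian modulo `R`. -/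
theorem inertia_facts {m : ℕ}
    (hcd : ∀ χ : IrrCharacter G, charDegree (χ : G → ℂ) = 1 ∨ charDegree (χ : G → ℂ) = m)
    (R : Subgroup G) (hR : R.Normal) (L : Subgroup G) (p : G →* L) (hp : ∀ l : L, p l = l)
    (hpR : ∀ g : G, g * (p g : G)⁻¹ ∈ R) (hp1 : ∀ r ∈ R, p r = 1) (f : R →* ℂˣ) (T : Subgroup G)
    (hT : ∀ g : G, g ∈ T ↔ ∀ r : R, f ⟨g * r * g⁻¹, hR.conj_mem r r.2 g⟩ = f r) (hne : T ≠ ⊤) :
    (T.subgroupOf L).index = m ∧
      ∀ a ∈ T.subgroupOf L, ∀ b ∈ T.subgroupOf L, a * b = b * a := by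
  classical
  haveI := Fintype.ofFinite G
  haveI := Fintype.ofFinite R
  haveI := Fintype.ofFinite T
  have hRT : R ≤ T := fun x hx => (hT x).2 fun r => by
    rw [show (⟨x * r * x⁻¹, hR.conj_mem r r.2 x⟩ : R) = ⟨x, hx⟩ * r * ⟨x, hx⟩⁻¹ from rfl,
      map_mul, map_mul, map_inv, mul_inv_cancel_comm]
  have hpT : ∀ g, g ∈ T → (p g : G) ∈ T := fun g hg => by
    rw [show (p g : G) = (g * (p g : G)⁻¹)⁻¹ * g by group]
    exact T.mul_mem (T.inv_mem (hRT (hpR g))) hg
  have hcomap : (T.subgroupOf L).comap p = T := by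
    ext g
    refine ⟨fun (hg : (p g : G) ∈ T) => ?_, hpT g⟩
    rw [show g = (g * (p g : G)⁻¹) * (p g : G) by group]
    exact T.mul_mem (hRT (hpR g)) hg
  have hidx : T.index = (T.subgroupOf L).index := by
    conv_lhs => rw [← hcomap]
    exact Subgroup.index_comap_of_surjective _ fun l => ⟨(l : G), hp l⟩
  -- the extension of `f` to its inertia group
  have hconj : ∀ (t : G), t ∈ T → ∀ (x : G) (hx : x ∈ R) (y : G) (hy : y ∈ R),
      y = t * x * t⁻¹ → f ⟨y, hy⟩ = f ⟨x, hx⟩ := by
    intro t ht x hx y hy he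
    subst he
    exact (hT t).1 ht ⟨x, hx⟩
  let fe : T →* ℂˣ :=
    { toFun := fun g => f ⟨(g : G) * (p g : G)⁻¹, hpR g⟩
      map_one' := by
        rw [show (⟨((1 : T) : G) * (p ((1 : T) : G) : G)⁻¹, hpR _⟩ : R) = 1 from
          Subtype.ext (by simp), map_one]
      map_mul' := fun g h => by
        have hz : (p g : G) * ((h : G) * (p h : G)⁻¹) * (p g : G)⁻¹ ∈ R :=
          hR.conj_mem _ (hpR h) _
        rw [show (⟨((g * h : T) : G) * (p ((g * h : T) : G) : G)⁻¹, hpR _⟩ : R) =
            ⟨(g : G) * (p g : G)⁻¹, hpR g⟩ * ⟨_, hz⟩ from Subtype.ext (by simp; group),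
          map_mul, hconj (p g) (hpT g g.2) _ (hpR h) _ hz rfl] }
  have hfe : ∀ r : R, fe (Subgroup.inclusion hRT r) = f r := fun r => by
    refine congrArg f (Subtype.ext ?_)
    show (r : G) * (p r : G)⁻¹ = r
    rw [hp1 r r.2]; simp
  let ι : IrrCharacter R := ⟨_, isIrrCharacter_of_hom f⟩
  have hTi : T = Clifford.inertia hR (ι : R → ℂ) := by
    ext g
    rw [hT, Clifford.mem_inertia]
    exact ⟨fun h n => congrArg Units.val (h n), fun h n => Units.ext (h n)⟩
  -- the inertia group has index `m`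
  obtain ⟨hirr, hdeg, -, -⟩ := LinearTwist.indFun_irr_of_inertia hR ι.2 T hTi hRT
    (isIrrCharacter_of_hom fe) (fun r => congrArg Units.val (hfe r))
  have hTm : T.index = m := by
    have h1 : charDegree (indFun T fun x : T => (fe x : ℂ)) = T.index :=
      LinearTwist.charDegree_eq_of_apply_one (by rw [hdeg]; simp [ι])
    have := hcd ⟨_, hirr⟩
    rw [show ((⟨_, hirr⟩ : IrrCharacter G) : G → ℂ) = indFun T fun x : T => (fe x : ℂ) from rfl,
      h1] at this
    exact this.resolve_left fun h => hne (Subgroup.index_eq_one.1 h)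
  refine ⟨hidx ▸ hTm, fun a ha b hb => ?_⟩
  haveI := Fintype.ofFinite (T.subgroupOf L)
  let q : T →* T.subgroupOf L := (p.comp T.subtype).codRestrict _ fun g => hpT g g.2
  have hq : Function.Surjective q := fun l =>
    ⟨⟨((l : L) : G), l.2⟩, Subtype.ext (hp l)⟩
  refine congrArg Subtype.val (CfsgLib.ItoMichler.comm_of_degree_one
    (G := T.subgroupOf L) (fun η => ?_) ⟨a, ha⟩ ⟨b, hb⟩)
  let ψ : IrrCharacter T := ⟨_, LinearTwist.isIrr_mul_hom
    (Clifford.isIrrCharacter_pullback η.2 q hq) fe⟩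
  have hψ1 : charDegree (ψ : T → ℂ) = charDegree (η : T.subgroupOf L → ℂ) :=
    LinearTwist.charDegree_eq_of_apply_one (by simp [ψ, deg_eq])
  have hψR : mult (Subgroup.inclusion hRT) ψ ι = charDegree (η : T.subgroupOf L → ℂ) := by
    refine mult_eq_of_classInner_eq _ _ _ ?_
    have : (ψ : T → ℂ) ∘ Subgroup.inclusion hRT =
        (charDegree (η : T.subgroupOf L → ℂ) : ℂ) • (ι : R → ℂ) := by
      funext r
      show (η : T.subgroupOf L → ℂ) (q (Subgroup.inclusion hRT r)) *
        (fe (Subgroup.inclusion hRT r) : ℂ) = _ * (f r : ℂ)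
      have hq1 : q (Subgroup.inclusion hRT r) = 1 := by
        exact Subtype.ext (hp1 r r.2)
      rw [hq1, hfe, deg_eq]
    rw [this, classInner_smul_left, classInner_irr_self ι.2, mul_one]
  have hind := Induction.isCharacter_indFun T (irr_isCharacter ψ)
  have hne0 : indFun T (ψ : T → ℂ) ≠ 0 := fun h => by
    have := congrFun h 1
    rw [Induction.indFun_one_apply, Pi.zero_apply, mul_eq_zero] at this
    exact this.elim (fun h0 => Subgroup.index_ne_zero_of_finite (Nat.cast_eq_zero.1 h0))
      (irr_one_ne_zero ψ)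
  obtain ⟨χ, hχ⟩ := Clifford.exists_constituent hind hne0
  have hχψ : mult T.subtype χ ψ ≠ 0 := fun h => hχ (by
    rw [Induction.classInner_indFun T _ (irr_isClassFunction χ), classInner_conj_symm,
      show classInner (fun x : T => (χ : G → ℂ) x) (ψ : T → ℂ) = (mult T.subtype χ ψ : ℂ) from
        mult_spec T.subtype χ ψ, h]
    simp)
  have hle : charDegree (η : T.subgroupOf L → ℂ) ≤ mult R.subtype χ ι := by
    have h := CharCorrQ.mult_mul_le_comp T.subtype (Subgroup.inclusion hRT) χ ψ ι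
    rw [hψR, show T.subtype.comp (Subgroup.inclusion hRT) = R.subtype from rfl] at h
    exact le_trans (Nat.le_mul_of_pos_left _ (Nat.pos_of_ne_zero hχψ)) h
  have hpos := charDegree_irr_pos η
  have hcl := Clifford.clifford_degree hR χ.2 ι.2 (by
    rw [show classInner (fun n : R => (χ : G → ℂ) n) (ι : R → ℂ) = (mult R.subtype χ ι : ℂ) from
      mult_spec R.subtype χ ι, Nat.cast_ne_zero]; omega)
  rw [show classInner (fun n : R => (χ : G → ℂ) n) (ι : R → ℂ) = (mult R.subtype χ ι : ℂ) from
      mult_spec R.subtype χ ι, ← hTi, deg_eq, show (ι : R → ℂ) 1 = 1 by simp [ι], mul_one,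
    ← Nat.cast_mul, Nat.cast_inj, hTm] at hcl
  have h1T : 1 < m := hTm ▸ Subgroup.one_lt_index_of_ne_top hne
  rcases hcd χ with h | h <;> rw [h] at hcl
  · have := Nat.le_mul_of_pos_left m (show 0 < mult R.subtype χ ι by omega)
    omega
  · have : mult R.subtype χ ι = 1 := (mul_eq_right₀ (by omega)).1 hcl.symm
    omega

/-- Structure of a group with two degrees. -/
theorem cases_structure {m : ℕ}
    (hcd : ∀ χ : IrrCharacter G, charDegree (χ : G → ℂ) = 1 ∨ charDegree (χ : G → ℂ) = m)
    (hm : ∃ χ : IrrCharacter G, charDegree (χ : G → ℂ) = m) (hm1 : m ≠ 1) :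
    (∃ A : Subgroup G, A.Normal ∧ (∀ a ∈ A, ∀ b ∈ A, a * b = b * a) ∧ A.index = m ∧
      commutator G ≤ A) ∨
    (Group.IsNilpotent G ∧ ∃ p e : ℕ, p.Prime ∧ m = p ^ e ∧ ∃ P A : Subgroup G, P.Normal ∧
      A.Normal ∧ IsPGroup p P ∧ (∀ a ∈ A, ∀ b ∈ A, a * b = b * a) ∧ P ⊓ A = ⊥ ∧ P ⊔ A = ⊤) := by
  classical
  haveI := Fintype.ofFinite G
  have h1m := one_lt hm hm1
  obtain ⟨R, hR, hcop, hRab, hnil, hidx, hpp⟩ := exists_core hcd hm hm1
  haveI := hR
  obtain ⟨L, hL⟩ := Subgroup.exists_right_complement'_of_coprime hcop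
  have hinf : R ⊓ L = ⊥ := hL.disjoint.eq_bot
  have hbij : Function.Bijective ((QuotientGroup.mk' R).comp L.subtype) := by
    refine ⟨(injective_iff_map_eq_one _).2 fun l hl => Subtype.ext ?_, fun x => ?_⟩
    · have : (l : G) ∈ R ⊓ L := ⟨(QuotientGroup.eq_one_iff _).1 hl, l.2⟩
      rwa [hinf, Subgroup.mem_bot] at this
    · obtain ⟨g, rfl⟩ := QuotientGroup.mk'_surjective R x
      obtain ⟨r, hr, l, hl, rfl⟩ := Subgroup.mem_sup_of_normal_left.1
        (hL.sup_eq_top ▸ Subgroup.mem_top g : g ∈ R ⊔ L)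
      exact ⟨⟨l, hl⟩, by simp [(QuotientGroup.eq_one_iff r).2 hr]⟩
  let e : L ≃* G ⧸ R := MulEquiv.ofBijective _ hbij
  let p : G →* L := e.symm.toMonoidHom.comp (QuotientGroup.mk' R)
  have hp : ∀ l : L, p l = l := fun l => e.symm_apply_apply l
  have hpR : ∀ g : G, g * (p g : G)⁻¹ ∈ R := fun g => by
    rw [← QuotientGroup.eq_one_iff, QuotientGroup.mk_mul, QuotientGroup.mk_inv, mul_inv_eq_one]
    exact (e.apply_symm_apply (g : G ⧸ R)).symm
  have hp1 : ∀ r ∈ R, p r = 1 := fun r hr => by
    show e.symm (r : G ⧸ R) = 1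
    rw [(QuotientGroup.eq_one_iff r).2 hr, map_one]
  haveI hLnil : Group.IsNilpotent L := Group.nilpotent_of_mulEquiv e.symm
  have hLcard : Nat.card L = R.index := by rw [Nat.card_congr e.toEquiv, Subgroup.index_eq_card]
  let Λ := R →* ℂˣ
  let φ : L →* MulAut Λ :=
    { toFun := fun l =>
        { toFun := fun f => f.comp (MulAut.conjNormal (l : G)⁻¹).toMonoidHom
          invFun := fun f => f.comp (MulAut.conjNormal (l : G)).toMonoidHom
          left_inv := fun f => MonoidHom.ext fun r => by simp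
          right_inv := fun f => MonoidHom.ext fun r => by simp
          map_mul' := fun f k => rfl }
      map_one' := MulEquiv.ext fun f => MonoidHom.ext fun r => by simp
      map_mul' := fun a b => MulEquiv.ext fun f => MonoidHom.ext fun r => by simp [map_mul] }
  have hφ : ∀ (l : L) (f : Λ), φ l f = f ↔
      ∀ r : R, f ⟨(l : G) * r * (l : G)⁻¹, hR.conj_mem r r.2 l⟩ = f r := by
    intro l f
    constructor
    · intro h r
      have := DFunLike.congr_fun h ⟨(l : G) * r * (l : G)⁻¹, hR.conj_mem r r.2 l⟩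
      rw [← this]
      exact congrArg f (Subtype.ext (by simp; group))
    · refine fun h => MonoidHom.ext fun r => ?_
      show f (MulAut.conjNormal (l : G)⁻¹ r) = f r
      rw [← h (MulAut.conjNormal (l : G)⁻¹ r)]
      exact congrArg f (Subtype.ext (by simp; group)).symm
  -- points moved by `L`
  have hfacts : ∀ f : Λ, (∃ l, φ l f ≠ f) → (stabAut φ f).index = m ∧
      ∀ a ∈ stabAut φ f, ∀ b ∈ stabAut φ f, a * b = b * a := by
    intro f ⟨l₀, hl₀⟩
    let T : Subgroup G := Clifford.inertia hR (fun r : R => (f r : ℂ))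
    have hT : ∀ g : G, g ∈ T ↔ ∀ r : R, f ⟨g * r * g⁻¹, hR.conj_mem r r.2 g⟩ = f r := fun g => by
      rw [Clifford.mem_inertia]
      exact ⟨fun h n => Units.ext (h n), fun h n => congrArg Units.val (h n)⟩
    have hTL : T.subgroupOf L = stabAut φ f := by
      ext l; exact (hT l).trans (hφ l f).symm
    rw [← hTL]
    refine inertia_facts hcd R hR L p hp hpR hp1 f T hT fun h => hl₀ ?_
    refine (mem_stabAut (φ := φ) (x := f) (a := l₀)).1 ?_
    rw [← hTL]
    exact (h.symm ▸ Subgroup.mem_top (l₀ : G) : (l₀ : G) ∈ T)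
  have hker : ∀ l : L, φ l = 1 → ∀ r ∈ R, (l : G) * r = r * l := by
    intro l hl r hr
    by_contra hne
    have hne' : (⟨(l : G) * r * (l : G)⁻¹, hR.conj_mem r hr l⟩ : R) * ⟨r, hr⟩⁻¹ ≠ 1 := fun h =>
      hne (by
        have := congrArg Subtype.val (mul_inv_eq_one.1 h)
        exact mul_inv_eq_iff_eq_mul.1 this)
    letI : CommGroup R :=
      { (inferInstance : Group R) with
        mul_comm := fun a b => Subtype.ext (hRab a a.2 b b.2) }
    obtain ⟨f, hf⟩ := CommGroup.exists_apply_ne_one_of_hasEnoughRootsOfUnity R ℂ hne'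
    refine hf ?_
    rw [map_mul, (hφ l f).1 (by rw [hl]; rfl) ⟨r, hr⟩, map_inv, mul_inv_cancel]
  by_cases hfix : ∀ l : L, φ l = 1
  · -- `R` is central
    right
    have hRc : R ≤ Subgroup.center G := fun r hr => Subgroup.mem_center_iff.2 fun g => by
      have h1 : g = (g * (p g : G)⁻¹) * (p g : G) := by group
      rw [h1, mul_assoc, hker _ (hfix _) r hr, ← mul_assoc, hRab _ (hpR g) r hr, mul_assoc]
    have hGnil : Group.IsNilpotent G :=
      Subgroup.isNilpotent_of_ker_le_center (QuotientGroup.mk' R)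
        (by rw [QuotientGroup.ker_mk']; exact hRc)
    refine ⟨hGnil, ?_⟩
    by_cases hmpp : IsPrimePow m
    · obtain ⟨q, e', hq, he', hqe⟩ := hmpp
      refine ⟨q, e', Nat.prime_iff.2 hq, hqe.symm, L, R, ?_, hR, ?_, hRab, ?_, ?_⟩
      · refine ⟨fun x hx g => ?_⟩
        have h1 : g = (g * (p g : G)⁻¹) * (p g : G) := by group
        have hz := Subgroup.mem_center_iff.1 (hRc (hpR g))
        rw [h1, show g * (p g : G)⁻¹ * (p g : G) * x * (g * (p g : G)⁻¹ * (p g : G))⁻¹ =
          g * (p g : G)⁻¹ * ((p g : G) * x * (p g : G)⁻¹) * (g * (p g : G)⁻¹)⁻¹ by group,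
          ← hz, mul_inv_cancel_right]
        exact L.mul_mem (L.mul_mem (p g).2 hx) (L.inv_mem (p g).2)
      · haveI : Fact q.Prime := ⟨Nat.prime_iff.2 hq⟩
        refine IsPGroup.of_card (n := (Nat.card L).primeFactorsList.length) ?_
        refine Nat.eq_prime_pow_of_unique_prime_dvd Nat.card_pos.ne' fun {d} hd hdvd => ?_
        have := hidx d hd (hLcard ▸ hdvd)
        rw [← hqe] at this
        exact (Nat.prime_dvd_prime_iff_eq hd (Nat.prime_iff.2 hq)).1 (hd.dvd_of_dvd_pow this)
      · rw [inf_comm]; exact hinf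
      · rw [sup_comm]; exact hL.sup_eq_top
    · exfalso
      have hGR := hpp hmpp
      have hcomm : ∀ a b : G, a * b = b * a := by
        intro a b
        have hab : (p a : G) * (p b : G) = (p b : G) * (p a : G) := by
          have h1 : ⁅(p a : G), (p b : G)⁆ ∈ R ⊓ L :=
            ⟨hGR (Subgroup.commutator_mem_commutator (Subgroup.mem_top _) (Subgroup.mem_top _)),
              by
                rw [commutatorElement_def]
                exact L.mul_mem (L.mul_mem (L.mul_mem (p a).2 (p b).2) (L.inv_mem (p a).2))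
                  (L.inv_mem (p b).2)⟩
          rw [hinf, Subgroup.mem_bot] at h1
          exact commutatorElement_eq_one_iff_mul_comm.1 h1
        have h1 : a = (a * (p a : G)⁻¹) * (p a : G) := by group
        have h2 : b = (b * (p b : G)⁻¹) * (p b : G) := by group
        have hza := Subgroup.mem_center_iff.1 (hRc (hpR a))
        have hzb := Subgroup.mem_center_iff.1 (hRc (hpR b))
        calc a * b = (a * (p a : G)⁻¹) * ((p a : G) * (b * (p b : G)⁻¹)) * (p b : G) := by
              group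
          _ = (a * (p a : G)⁻¹) * (b * (p b : G)⁻¹) * ((p a : G) * (p b : G)) := by
              rw [hzb (p a : G)]; group
          _ = (b * (p b : G)⁻¹) * (a * (p a : G)⁻¹) * ((p b : G) * (p a : G)) := by
              rw [hab, hza (b * (p b : G)⁻¹)]
          _ = (b * (p b : G)⁻¹) * ((a * (p a : G)⁻¹) * (p b : G)) * (p a : G) := by group
          _ = b * a := by rw [← hza (p b : G)]; group
      obtain ⟨χ, hχ⟩ := hm
      have := deg_le_index (⊤ : Subgroup G) (fun a _ b _ => hcomm a b) χ
      rw [Subgroup.index_top, hχ] at this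
      omega
  · left
    let A := φ.range
    haveI : Group.IsNilpotent A :=
      Group.nilpotent_of_surjective φ.rangeRestrict φ.rangeRestrict_surjective
    haveI : Finite A := Finite.of_surjective _ φ.rangeRestrict_surjective
    haveI : Finite Λ := LinearTwist.finite_unitsHom
    haveI : Nontrivial A := by
      push Not at hfix
      obtain ⟨l, hl⟩ := hfix
      exact ⟨⟨⟨φ l, l, rfl⟩, 1, fun h => hl (congrArg Subtype.val h)⟩⟩
    have hcard : (Nat.card A).Coprime (Nat.card Λ) := by
      refine Nat.coprime_of_dvd fun q hq hqA hqΛ => ?_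
      haveI : Fact q.Prime := ⟨hq⟩
      obtain ⟨f, hf⟩ := exists_prime_orderOf_dvd_card' (G := Λ) q hqΛ
      have h1 : q ∣ Nat.card R := hf ▸ orderOf_dvd_of_pow_eq_one
        (MonoidHom.ext fun r => by rw [MonoidHom.pow_apply, ← map_pow, pow_card_eq_one', map_one,
          MonoidHom.one_apply])
      exact Nat.not_coprime_of_dvd_of_dvd hq.one_lt h1
        (hLcard ▸ hqA.trans (Subgroup.card_range_dvd φ)) hcop
    have hcomap : ∀ f : Λ, (stabAut A.subtype f).comap φ.rangeRestrict = stabAut φ f :=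
      fun f => by ext l; exact Iff.rfl
    obtain ⟨hAcomm, hAcard⟩ := half_transitive A.subtype A.subtype_injective hcard m
      (fun f ⟨a, ha⟩ => by
        obtain ⟨l, rfl⟩ := φ.rangeRestrict_surjective a
        obtain ⟨h1, h2⟩ := hfacts f ⟨l, ha⟩
        rw [← hcomap] at h1 h2
        rw [Subgroup.index_comap_of_surjective _ φ.rangeRestrict_surjective] at h1
        refine ⟨h1, fun a ha b hb => ?_⟩
        obtain ⟨x, rfl⟩ := φ.rangeRestrict_surjective a
        obtain ⟨y, rfl⟩ := φ.rangeRestrict_surjective b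
        rw [← map_mul, ← map_mul, h2 x ha y hb])
      (fun B hB hBm => CfsgLib.ItoMichler.comm_of_degree_one fun χ =>
        ((deg_pullback (φ.rangeRestrict.comp p)
          (φ.rangeRestrict_surjective.comp fun l => ⟨(l : G), hp l⟩) hcd χ).resolve_right
            fun h => not_le_of_gt hBm (h ▸ deg_le_index B hB χ)))
    let F : G →* A := φ.rangeRestrict.comp p
    have hF : Function.Surjective F :=
      φ.rangeRestrict_surjective.comp fun l => ⟨(l : G), hp l⟩
    refine ⟨F.ker, inferInstance, ?_, ?_, ?_⟩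
    · have hkp : ∀ g ∈ F.ker, φ (p g) = 1 := fun g hg => congrArg Subtype.val hg
      push Not at hfix
      obtain ⟨l₁, hl₁⟩ := hfix
      obtain ⟨f, hf⟩ : ∃ f, φ l₁ f ≠ f := by
        by_contra hc; push Not at hc; exact hl₁ (MulEquiv.ext hc)
      have hab := (hfacts f ⟨l₁, hf⟩).2
      intro a ha b hb
      have hLab : (p a : G) * (p b : G) = (p b : G) * (p a : G) :=
        congrArg Subtype.val (hab (p a) (by rw [mem_stabAut, hkp a ha]; rfl)
          (p b) (by rw [mem_stabAut, hkp b hb]; rfl))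
      calc a * b = (a * (p a : G)⁻¹) * ((p a : G) * (b * (p b : G)⁻¹)) * (p b : G) := by group
        _ = (a * (p a : G)⁻¹) * (b * (p b : G)⁻¹) * ((p a : G) * (p b : G)) := by
            rw [hker _ (hkp a ha) _ (hpR b)]; group
        _ = (b * (p b : G)⁻¹) * (a * (p a : G)⁻¹) * ((p b : G) * (p a : G)) := by
            rw [hLab, hRab _ (hpR a) _ (hpR b)]
        _ = (b * (p b : G)⁻¹) * ((a * (p a : G)⁻¹) * (p b : G)) * (p a : G) := by group
        _ = b * a := by rw [← hker _ (hkp b hb) _ (hpR a)]; group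
    · rw [Subgroup.index_ker, MonoidHom.range_eq_top.2 hF, Subgroup.card_top, hAcard]
    · rw [commutator_def, Subgroup.commutator_le]
      intro a _ b _
      rw [MonoidHom.mem_ker, map_commutatorElement]
      exact commutatorElement_eq_one_iff_mul_comm.2 (hAcomm _ _)

end CfsgLib.TwoDegrees
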